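import Groth.Prelude.Def_Versch
import Groth.Prelude.Def_CartDual2
import Groth.Prelude.Def_AlphaP
import Groth.Agent.FrobAlgLib.Univ
import Groth.Agent.FinHopf.Eigen

/-!
The Verschiebung: `V ∘ F = [p]`, `F ∘ V = [p]`, examples, and the multiplicative criterion.
-/

set_option autoImplicit false
set_option backward.isDefEq.respectTransparency false
set_option backward.isDefEq.respectTransparency.types false
set_option linter.unusedSectionVars false

universe u v

open TensorProduct WithConv

noncomputable section

namespace Groth.Agent.VerschLib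

section Generic

theorem sum_pow_prime {p : ℕ} [Fact p.Prime] {E : Type*} [CommRing E] (h : (p : E) = 0) {ι : Type*} (s : Finset ι)
    (f : ι → E) : (∑ i ∈ s, f i) ^ p = ∑ i ∈ s, f i ^ p := by
  rcases subsingleton_or_nontrivial E with hE | hE
  · exact Subsingleton.elim _ _
  · haveI : CharP E p := (CharP.charP_iff_prime_eq_zero Fact.out).2 h
    exact sum_pow_char p s f

theorem exists_dualBasis (R : Type u) [CommRing R] (A : Type v) [AddCommGroup A] [Module R A] [Module.Finite R A]
    [Module.Projective R A] :
    ∃ (n : ℕ) (e : Fin n → A) (f : Fin n → (A →ₗ[R] R)), ∀ a, ∑ i, f i a • e i = a := by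
  obtain ⟨n, f, g, -, -, hfg⟩ := Module.Finite.exists_comp_eq_id_of_projective R A
  refine ⟨n, fun i => f (Pi.single i 1), fun i => LinearMap.proj i ∘ₗ g, fun a => ?_⟩
  have h := LinearMap.congr_fun hfg a
  rw [LinearMap.comp_apply, LinearMap.id_apply] at h
  conv_rhs => rw [← h, pi_eq_sum_univ' (g a), map_sum]
  exact Finset.sum_congr rfl fun i _ => by rw [map_smul]; rfl

variable (R : Type u) [CommRing R] (A : Type v) [CommRing A] [HopfAlgebra R A]

theorem apply_grouplike {g : A} (h1 : Coalgebra.counit (R := R) g = 1) (h2 : Coalgebra.comul (R := R) g = g ⊗ₜ g)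
    (x : CartDual.D R A) : ∀ n : ℕ, (x ^ n) g = (x g) ^ n
  | 0 => by rw [pow_zero, pow_zero, LinearMap.convOne_apply, h1, map_one]
  | n + 1 => by
    rw [pow_succ, pow_succ, LinearMap.convMul_apply, h2, TensorProduct.map_tmul, LinearMap.mul'_apply]
    exact congrArg (· * x g) (apply_grouplike h1 h2 x n)

theorem apply_one (x : CartDual.D R A) (n : ℕ) : (x ^ n) 1 = (x 1) ^ n :=
  apply_grouplike R A Bialgebra.counit_one (by rw [Bialgebra.comul_one, Algebra.TensorProduct.one_def]) x n

theorem apply_algebraMap (x : CartDual.D R A) (r : R) : x (algebraMap R A r) = r * x 1 := by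
  rw [Algebra.algebraMap_eq_smul_one, CartDual.coe_apply, map_smul, smul_eq_mul, CartDual.coe_apply]

theorem apply_primitive {g : A} (h1 : Coalgebra.counit (R := R) g = 0)
    (h2 : Coalgebra.comul (R := R) g = g ⊗ₜ 1 + 1 ⊗ₜ g) (x : CartDual.D R A) :
    ∀ n : ℕ, (x ^ n) g = n * (x 1) ^ (n - 1) * x g
  | 0 => by rw [pow_zero, LinearMap.convOne_apply, h1, map_zero]; simp
  | n + 1 => by
    rw [pow_succ, LinearMap.convMul_apply, h2, map_add, map_add, TensorProduct.map_tmul, TensorProduct.map_tmul,
      LinearMap.mul'_apply, LinearMap.mul'_apply, ← CartDual.coe_apply, ← CartDual.coe_apply, ← CartDual.coe_apply,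
      ← CartDual.coe_apply, apply_primitive h1 h2 x n, apply_one]
    rcases n with _ | n
    · simp
    · rw [show n + 1 + 1 - 1 = n + 1 from rfl, show n + 1 - 1 = n from rfl]
      push_cast
      ring

end Generic

variable (p : ℕ) [Fact p.Prime] (R : Type u) [CommRing R] [CharP R p]

theorem pow_eq_relFrob_tmul (A : Type v) [CommRing A] [Algebra R A] [CharP A p] (y : FrobAlg.BaseChange p R A) :
    y ^ p = (FrobAlg.relFrob p R A y) ⊗ₜ[R] (1 : FrobAlg.Twist p R) := by
  have hp0 : (p : FrobAlg.BaseChange p R A) = 0 := by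
    rw [← map_natCast (algebraMap R (FrobAlg.BaseChange p R A)), CharP.cast_eq_zero, map_zero]
  induction y using TensorProduct.induction_on with
  | zero => rw [zero_pow (Fact.out : p.Prime).ne_zero, map_zero, TensorProduct.zero_tmul]
  | tmul b a =>
    rw [Algebra.TensorProduct.tmul_pow,
      show FrobAlg.relFrob p R A (b ⊗ₜ[R] a) = b ^ p * algebraMap R A ((FrobAlg.toTwist p R).symm a) from rfl,
      mul_comm, ← Algebra.smul_def, TensorProduct.smul_tmul]
    congr 1
    rw [Algebra.smul_def, FrobAlg.algebraMap_twist, mul_one, map_pow, RingEquiv.apply_symm_apply]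
  | add y z hy hz =>
    obtain ⟨c, hc⟩ := exists_add_pow_prime_eq (Fact.out : p.Prime) y z
    rw [hc, hy, hz, map_add, TensorProduct.add_tmul, hp0, zero_mul, zero_mul, zero_mul, add_zero]

section Dual

variable (A : Type v) [CommRing A] [HopfAlgebra R A] [Coalgebra.IsCocomm R A] [Module.Finite R A] [Module.Projective R A]
  {v : A →+* FrobAlg.BaseChange p R A} (hv : Versch.IsVerschiebung p R A v)

include hv

theorem evTw_v (a : A) (x : CartDual.D R A) :
    Versch.evTw p R A x (v a) = FrobAlg.toTwist p R ((x ^ p) a) :=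
  (Versch.isVerschiebung_iff p R A v).1 hv a x

theorem v_algebraMap (r : R) : v (algebraMap R A r) = 1 ⊗ₜ[R] FrobAlg.toTwist p R r := by
  refine Versch.evTw_injective p R A fun x => ?_
  rw [evTw_v p R A hv, Versch.evTw_tmul', apply_algebraMap, apply_one, map_mul, mul_comm]

theorem eq_trivial (h : ∀ (x : CartDual.D R A) (a : A), (x ^ p) a = (x 1) ^ p * Coalgebra.counit (R := R) a) :
    v = ((Algebra.TensorProduct.includeRight (R := R) (A := A) (B := FrobAlg.Twist p R)).toRingHom.comp
          (FrobAlg.toTwist p R).toRingHom).comp (Bialgebra.counitAlgHom R A).toRingHom := by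
  refine RingHom.ext fun a => Versch.evTw_injective p R A fun x => ?_
  rw [evTw_v p R A hv, h, map_mul]
  exact (Versch.evTw_tmul' p R A x 1 _).symm

end Dual

section Pow

variable (A : Type u) [CommRing A] [HopfAlgebra R A] [Coalgebra.IsCocomm R A] [Module.Finite R A] [Module.Projective R A]
  {v : A →+* FrobAlg.BaseChange p R A} (hv : Versch.IsVerschiebung p R A v)

include hv

theorem relFrob_v [CharP A p] (a : A) : FrobAlg.relFrob p R A (v a) = SGA3b.powConv R A p a := by
  classical
  obtain ⟨n, e, f, hef⟩ := exists_dualBasis R A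
  have h1 : ∀ w, FrobAlg.relFrob p R A w = ∑ i,
      algebraMap R A ((FrobAlg.toTwist p R).symm (Versch.evTw p R A (toConv (f i)) w)) * e i ^ p := fun w => by
    induction w using TensorProduct.induction_on with
    | zero => simp
    | add w w' hw hw' => simp only [map_add, hw, hw', add_mul, Finset.sum_add_distrib]
    | tmul b s =>
      rw [show FrobAlg.relFrob p R A (b ⊗ₜ[R] s) = b ^ p * algebraMap R A ((FrobAlg.toTwist p R).symm s) from rfl]
      conv_lhs => rw [← hef b, sum_pow_char p, Finset.sum_mul]
      refine Finset.sum_congr rfl fun i _ => ?_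
      rw [Versch.evTw_tmul', map_mul, RingEquiv.symm_apply_apply, map_mul, map_pow, Algebra.smul_def, mul_pow]
      change _ = algebraMap R A (f i b) ^ p * _ * _
      ring
  rw [h1]
  simp only [evTw_v p R A hv, RingEquiv.symm_apply_apply]
  -- the right-hand side in the convolution algebra of endomorphisms
  let Φ : CartDual.D R A →+* WithConv (A →ₗ[R] A) :=
    { toFun := fun g => toConv (Algebra.linearMap R A ∘ₗ g.ofConv)
      map_one' := by
        refine WithConv.ext (LinearMap.ext fun c => ?_)
        change algebraMap R A ((1 : CartDual.D R A) c) = algebraMap R A (Coalgebra.counit c)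
        rw [LinearMap.convOne_apply]; rfl
      map_mul' := fun g g' => by
        refine WithConv.ext ?_
        exact LinearMap.algHom_comp_convMul_distrib (Algebra.ofId R A) g g'
      map_zero' := by refine WithConv.ext (LinearMap.ext fun c => ?_); exact map_zero (algebraMap R A)
      map_add' := fun g g' => by
        refine WithConv.ext (LinearMap.ext fun c => ?_)
        exact map_add (algebraMap R A) _ _ }
  have hid : (toConv (LinearMap.id : A →ₗ[R] A)) = ∑ i, e i • Φ (toConv (f i)) := by
    refine WithConv.ext (LinearMap.ext fun c => ?_)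
    rw [WithConv.ofConv_sum, LinearMap.sum_apply]
    conv_lhs => rw [ofConv_toConv, LinearMap.id_apply, ← hef c]
    refine Finset.sum_congr rfl fun i _ => ?_
    rw [Algebra.smul_def, mul_comm]
    rfl
  have hp0 : (p : WithConv (A →ₗ[R] A)) = 0 := by
    rw [← map_natCast (algebraMap R (WithConv (A →ₗ[R] A))), CharP.cast_eq_zero, map_zero]
  have hpow : SGA3b.powConv R A p a = ((toConv (LinearMap.id : A →ₗ[R] A)) ^ p).ofConv a := by
    have := AlgHom.toLinearMap_convPow (toConv (AlgHom.id R A)) p
    exact congrArg (fun k => k.ofConv a) this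
  rw [hpow, hid, sum_pow_prime hp0, WithConv.ofConv_sum, LinearMap.sum_apply]
  refine Finset.sum_congr rfl fun i _ => ?_
  rw [smul_pow, ← map_pow, mul_comm]
  rfl

theorem v_relFrob [CharP A p] (a : A) (s : FrobAlg.Twist p R) :
    v (FrobAlg.relFrob p R A (a ⊗ₜ[R] s)) = SGA3b.powConv R A p a ⊗ₜ[R] s := by
  rw [show FrobAlg.relFrob p R A (a ⊗ₜ[R] s) = a ^ p * algebraMap R A ((FrobAlg.toTwist p R).symm s) from rfl,
    map_mul, map_pow, v_algebraMap p R A hv, RingEquiv.apply_symm_apply, pow_eq_relFrob_tmul p R A,
    relFrob_v p R A hv, Algebra.TensorProduct.tmul_mul_tmul, mul_one, one_mul]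

end Pow

theorem powConv_baseChange (T : Type u) [CommRing T] [Algebra R T] (A : Type u) [CommRing A] [HopfAlgebra R A] :
    ∀ (n : ℕ) (s : T) (a : A), SGA3b.powConv T (T ⊗[R] A) n (s ⊗ₜ a) = s ⊗ₜ SGA3b.powConv R A n a
  | 0, s, a => by
    rw [FinHopf.powConv_apply, FinHopf.powConv_apply, pow_zero, pow_zero, AlgHom.convOne_apply, AlgHom.convOne_apply,
      TensorProduct.counit_tmul, CommSemiring.counit_apply, Algebra.TensorProduct.algebraMap_apply,
      Algebra.algebraMap_eq_smul_one (Coalgebra.counit a), TensorProduct.tmul_smul, TensorProduct.smul_tmul']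
    rfl
  | n + 1, s, a => by
    rw [FinHopf.powConv_apply, FinHopf.powConv_apply, pow_succ, pow_succ, AlgHom.convMul_apply, AlgHom.convMul_apply,
      TensorProduct.comul_tmul, CommSemiring.comul_apply]
    generalize Coalgebra.comul (R := R) a = X
    induction X using TensorProduct.induction_on with
    | zero => simp
    | add x y hx hy => simp only [TensorProduct.tmul_add, map_add, hx, hy]
    | tmul b c =>
      rw [TensorProduct.AlgebraTensorModule.tensorTensorTensorComm_tmul, Algebra.TensorProduct.lift_tmul,
        Algebra.TensorProduct.lift_tmul]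
      change SGA3b.powConv T (T ⊗[R] A) n (1 ⊗ₜ b) * (s ⊗ₜ c) = s ⊗ₜ (SGA3b.powConv R A n b * c)
      rw [powConv_baseChange T A n, Algebra.TensorProduct.tmul_mul_tmul, one_mul]

theorem v_comp_relFrob_eq (A : Type u) [CommRing A] [HopfAlgebra R A] [Coalgebra.IsCocomm R A] [Module.Finite R A]
    [Module.Projective R A] [CharP A p] {v : A →+* FrobAlg.BaseChange p R A} (hv : Versch.IsVerschiebung p R A v) :
    ((Algebra.TensorProduct.comm R A (FrobAlg.Twist p R)).toRingEquiv.toRingHom.comp
        ((v.comp (FrobAlg.relFrob p R A)).comp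
          (Algebra.TensorProduct.comm R A (FrobAlg.Twist p R)).symm.toRingEquiv.toRingHom)) =
      (SGA3b.powConv (FrobAlg.Twist p R) (FrobAlg.Twist p R ⊗[R] A) p).toRingHom := by
  refine RingHom.ext fun z => ?_
  induction z using TensorProduct.induction_on with
  | zero => simp only [map_zero]
  | add x y hx hy => simp only [map_add, hx, hy]
  | tmul s a =>
    refine Eq.trans ?_ (powConv_baseChange R (FrobAlg.Twist p R) A p s a).symm
    change (Algebra.TensorProduct.comm R A (FrobAlg.Twist p R)) (v (FrobAlg.relFrob p R A (a ⊗ₜ[R] s))) = _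
    rw [v_relFrob p R A hv]
    rfl

theorem pow_mem_range_powConv (A : Type u) [CommRing A] [HopfAlgebra R A] [Coalgebra.IsCocomm R A]
    [Module.Finite R A] [Module.Projective R A] [CharP A p] {v : A →+* FrobAlg.BaseChange p R A}
    (hv : Versch.IsVerschiebung p R A v) (hs : Function.Surjective v) (a : A) :
    ∀ m : ℕ, ∃ b, SGA3b.powConv R A (p ^ m) b = a ^ p ^ m
  | 0 => ⟨a, by rw [pow_zero, pow_one, FinHopf.powConv_one]⟩
  | m + 1 => by
    obtain ⟨b, hb⟩ := pow_mem_range_powConv A hv hs a m
    obtain ⟨c, hc⟩ := hs (b ⊗ₜ[R] 1)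
    refine ⟨c, ?_⟩
    have h := relFrob_v p R A hv c
    rw [hc, FrobAlgLib.relFrob_left p R A b] at h
    rw [pow_succ p m, ← FinHopf.powConv_comp, ← h, map_pow, hb, ← pow_mul]

section Examples

theorem alphaP (v : AlphaP.A p R →+* FrobAlg.BaseChange p R (AlphaP.A p R))
    (hv : Versch.IsVerschiebung p R (AlphaP.A p R) v) :
    v = ((Algebra.TensorProduct.includeRight (R := R) (A := AlphaP.A p R) (B := FrobAlg.Twist p R)).toRingHom.comp
          (FrobAlg.toTwist p R).toRingHom).comp (Bialgebra.counitAlgHom R (AlphaP.A p R)).toRingHom := by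
  let W := ((Algebra.TensorProduct.includeRight (R := R) (A := AlphaP.A p R) (B := FrobAlg.Twist p R)).toRingHom.comp
          (FrobAlg.toTwist p R).toRingHom).comp (Bialgebra.counitAlgHom R (AlphaP.A p R)).toRingHom
  have hC : ∀ r, v (algebraMap R _ r) = W (algebraMap R _ r) := fun r => by
    rw [v_algebraMap p R _ hv]
    change _ = (1 : AlphaP.A p R) ⊗ₜ[R] FrobAlg.toTwist p R (Bialgebra.counitAlgHom R (AlphaP.A p R) (algebraMap R _ r))
    rw [AlgHom.commutes]; rfl
  have hX : v (AlphaP.x p R) = W (AlphaP.x p R) := by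
    change _ = (1 : AlphaP.A p R) ⊗ₜ[R] FrobAlg.toTwist p R (Coalgebra.counit (R := R) (AlphaP.x p R))
    rw [AlphaP.counit_x, map_zero, TensorProduct.tmul_zero]
    refine Versch.evTw_injective p R _ fun x => ?_
    rw [evTw_v p R _ hv, apply_primitive R _ (AlphaP.counit_x p R) (AlphaP.comul_x p R), CharP.cast_eq_zero,
      zero_mul, zero_mul, map_zero, map_zero]
  refine RingHom.ext fun a => ?_
  obtain ⟨f, rfl⟩ := AlphaP.mk_surjective p R a
  induction f using Polynomial.induction_on with
  | C r =>
    rw [← Polynomial.algebraMap_eq, AlgHom.commutes]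
    exact hC r
  | add f g hf hg => rw [map_add, map_add, map_add, hf, hg]
  | monomial n r _ =>
    rw [map_mul, map_pow, AlphaP.mk_X, ← Polynomial.algebraMap_eq, AlgHom.commutes, map_mul, map_mul, map_pow, map_pow]
    exact congrArg₂ (· * ·) (hC r) (congrArg (· ^ (n + 1)) hX)

theorem muP (v : MonoidAlgebra R (Multiplicative (ZMod p)) →+* FrobAlg.BaseChange p R (MonoidAlgebra R (Multiplicative (ZMod p))))
    (hv : Versch.IsVerschiebung p R (MonoidAlgebra R (Multiplicative (ZMod p))) v)
    (g : Multiplicative (ZMod p)) (c : R) :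
    v (MonoidAlgebra.single g c) = MonoidAlgebra.single g (1 : R) ⊗ₜ[R] FrobAlg.toTwist p R c := by
  refine Versch.evTw_injective p R _ fun x => ?_
  have hsmul : MonoidAlgebra.single g c = c • MonoidAlgebra.single g (1 : R) := by simp
  have hg := MonoidAlgebra.isGroupLikeElem_single_one (R := R) (A := R) g
  rw [evTw_v p R _ hv, Versch.evTw_tmul', hsmul, CartDual.coe_apply, map_smul, smul_eq_mul, ← CartDual.coe_apply,
    apply_grouplike R _ hg.counit_eq_one hg.comul_eq_tmul_self, map_mul, mul_comm]

theorem dual_pExponent (G : Type*) [CommGroup G] [Finite G] (hG : ∀ g : G, g ^ p = 1)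
    (v : CartDual.D R (MonoidAlgebra R G) →+* FrobAlg.BaseChange p R (CartDual.D R (MonoidAlgebra R G)))
    (hv : Versch.IsVerschiebung p R (CartDual.D R (MonoidAlgebra R G)) v) (x : CartDual.D R (CartDual.D R (MonoidAlgebra R G)))
    (b : CartDual.D R (MonoidAlgebra R G)) : (x ^ p) b = (x 1) ^ p * Coalgebra.counit (R := R) b := by
  let M := MonoidAlgebra R G
  have hp0 : (p : M) = 0 := by rw [← map_natCast (algebraMap R M), CharP.cast_eq_zero, map_zero]
  have key : ∀ a : M, a ^ p = algebraMap R M ((Coalgebra.counit (R := R) a) ^ p) := fun a => by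
    induction a using MonoidAlgebra.induction_linear with
    | zero => rw [map_zero, zero_pow (Fact.out : p.Prime).ne_zero, zero_pow (Fact.out : p.Prime).ne_zero, map_zero]
    | add a b ha hb =>
      rcases subsingleton_or_nontrivial R with hR | hR
      · haveI : Subsingleton M := Module.subsingleton R M
        exact Subsingleton.elim _ _
      haveI : CharP M p := (CharP.charP_iff_prime_eq_zero Fact.out).2 hp0
      rw [add_pow_char, ha, hb, map_add, add_pow_char, map_add]
    | single g c =>
      rw [MonoidAlgebra.single_pow, hG, MonoidAlgebra.counit_single]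
      simp [M, MonoidAlgebra.coe_algebraMap, ← map_pow]
  obtain ⟨a, ha⟩ : ∃ a : M, CartDual.evalLin R M a = x := by
    obtain ⟨a, ha⟩ := (Module.bijective_dual_eval R M).2 ((CartDual.toDual R M).symm.toLinearMap.dualMap x.ofConv)
    exact ⟨a, WithConv.ext (LinearMap.ext fun y => congrArg (fun k => k (CartDual.toDual R M y)) ha)⟩
  have hpow : x ^ p = algebraMap R _ ((Coalgebra.counit (R := R) a) ^ p) := by
    rw [← ha]
    exact ((map_pow (CartDual.eval R M) a p).symm.trans (congrArg _ (key a))).trans (AlgHomClass.commutes _ _)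
  rw [hpow, ← ha, LinearMap.convAlgebraMap_apply, smul_eq_mul, CartDual.evalLin_apply, LinearMap.convOne_apply,
    Algebra.algebraMap_self, RingHom.id_apply, RingHom.id_apply]

end Examples

section Field

theorem etale_dual_iff_bijective (k : Type u) [Field k] [CharP k p]
    (A : Type v) [CommRing A] [HopfAlgebra k A] [Coalgebra.IsCocomm k A] [FiniteDimensional k A]
    (v : A →+* FrobAlg.BaseChange p k A) (hv : Versch.IsVerschiebung p k A v) :
    Algebra.Etale k (CartDual.D k A) ↔ Function.Bijective v := by
  let D := CartDual.D k A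
  let T := FrobAlg.Twist p k
  let F := FrobAlg.relFrob p k D
  letI : Field T := (MulEquiv.isField (Field.toIsField k) (FrobAlg.toTwist p k).symm.toMulEquiv).toField
  haveI : Module.Finite k D := inferInstance
  haveI : Algebra.FinitePresentation k D := Algebra.FinitePresentation.of_finiteType.1 inferInstance
  rw [FrobAlgLib.etale_iff_bijective_relFrob' p k D]
  let σ : T →+* k := (FrobAlg.toTwist p k).symm.toRingHom
  have key : ∀ (B : Type (max u v)) [CommRing B] [Algebra k B] [FiniteDimensional k B]
      (G : T ⊗[k] B →+* B) (hG : ∀ t, G (t ⊗ₜ[k] 1) = algebraMap k B (σ t)),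
      Function.Surjective G → Function.Bijective G := by
    intro B _ _ _ G hG hs
    let bT := Algebra.TensorProduct.basis T (Module.finBasis k B)
    letI : Algebra T B := ((algebraMap k B).comp σ).toAlgebra
    let bB : Module.Basis (Fin (Module.finrank k B)) T B :=
      (Module.finBasis k B).mapCoeffs (FrobAlg.toTwist p k) (fun c x => by
        change algebraMap k B (σ (FrobAlg.toTwist p k c)) * x = c • x
        rw [Algebra.smul_def]; rfl)
    let L : T ⊗[k] B →ₐ[T] B := { toRingHom := G, commutes' := hG }
    haveI := Module.Finite.of_basis bT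
    haveI := Module.Finite.of_basis bB
    exact ⟨(LinearMap.injective_iff_surjective_of_finrank_eq_finrank (f := L.toLinearMap)
      (by rw [Module.finrank_eq_card_basis bT, Module.finrank_eq_card_basis bB])).2 hs, hs⟩
  have key' : Function.Surjective F → Function.Bijective F := fun hs => by
    have h := key D (F.comp (Algebra.TensorProduct.comm k T D).toRingEquiv.toRingHom) (fun t => by
      change F ((1 : D) ⊗ₜ[k] t) = _
      change (1 : D) ^ p * algebraMap k D ((FrobAlg.toTwist p k).symm t) = _
      rw [one_pow, one_mul]; rfl)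
      (hs.comp (Algebra.TensorProduct.comm k T D).surjective)
    exact (Function.Bijective.of_comp_iff _ (Algebra.TensorProduct.comm k T D).bijective).1 h
  -- the range of the relative Frobenius as a subspace
  have hFsmul : ∀ (c : k) (z : FrobAlg.BaseChange p k D),
      F (((1 : D) ⊗ₜ[k] FrobAlg.toTwist p k c) * z) = c • F z := fun c z => by
    rw [map_mul, Algebra.smul_def]
    congr 1
    change (1 : D) ^ p * algebraMap k D ((FrobAlg.toTwist p k).symm (FrobAlg.toTwist p k c)) = _
    rw [one_pow, one_mul, RingEquiv.symm_apply_apply]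
  let Rg : Submodule k D :=
    { carrier := Set.range F
      add_mem' := by rintro _ _ ⟨a, rfl⟩ ⟨b, rfl⟩; exact ⟨a + b, map_add F a b⟩
      zero_mem' := ⟨0, map_zero F⟩
      smul_mem' := by rintro c _ ⟨z, rfl⟩; exact ⟨_, hFsmul c z⟩ }
  have hpair : ∀ a, v a = 0 ↔ ∀ z, F z a = 0 := fun a => by
    constructor
    · intro h z
      induction z using TensorProduct.induction_on with
      | zero => rw [map_zero]; rfl
      | add z w hz hw => rw [map_add, CartDual.coe_apply, WithConv.ofConv_add, LinearMap.add_apply, ← CartDual.coe_apply,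
          ← CartDual.coe_apply, hz, hw, add_zero]
      | tmul x t =>
        apply (FrobAlg.toTwist p k).injective
        rw [← hv a x t, h, map_zero, zero_mul, map_zero]
    · intro h
      refine Versch.evTw_injective p k A fun x => ?_
      rw [map_zero, ← mul_one (Versch.evTw p k A x (v a)), hv a x 1, h, map_zero]
  have hinj : Function.Injective v ↔ Function.Surjective F := by
    constructor
    · intro hi
      by_contra hns
      have hlt : Rg < ⊤ := lt_top_iff_ne_top.2 fun h => hns fun d => (h ▸ Submodule.mem_top : d ∈ Rg)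
      obtain ⟨φ, hφ0, hφ⟩ := Submodule.exists_dual_map_eq_bot_of_lt_top hlt inferInstance
      obtain ⟨a, ha⟩ := (Module.bijective_dual_eval k A).2 ((CartDual.toDual k A).symm.toLinearMap.dualMap φ)
      have hval : ∀ y : D, φ y = y a := fun y =>
        (congrArg (fun g => g (CartDual.toDual k A y)) ha).symm
      have ha0 : a = 0 := hi (by
        rw [map_zero, hpair]
        intro z
        rw [← hval]
        exact (Submodule.mem_bot k).1 (hφ ▸ Submodule.mem_map_of_mem (show F z ∈ Rg from ⟨z, rfl⟩)))
      exact hφ0 (LinearMap.ext fun y => by rw [hval, ha0, CartDual.coe_apply, map_zero]; rfl)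
    · intro hs
      refine (injective_iff_map_eq_zero v).2 fun a ha => ?_
      refine (Module.bijective_dual_eval k A).1 (LinearMap.ext fun g => ?_)
      obtain ⟨z, hz⟩ := hs (WithConv.toConv g)
      have := (hpair a).1 ha z
      rw [hz] at this
      rw [map_zero]
      exact this
  refine ⟨fun h => ?_, fun h => key' (hinj.1 h.1)⟩
  have hi : Function.Injective v := hinj.2 h.2
  refine ⟨hi, ?_⟩
  -- surjectivity by counting dimensions
  let bT := Algebra.TensorProduct.basis T (Module.finBasis k A)
  letI : Algebra T A := ((algebraMap k A).comp σ).toAlgebra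
  let bA : Module.Basis (Fin (Module.finrank k A)) T A :=
    (Module.finBasis k A).mapCoeffs (FrobAlg.toTwist p k) (fun c x => by
      change algebraMap k A (σ (FrobAlg.toTwist p k c)) * x = c • x
      rw [Algebra.smul_def]; rfl)
  let e := Algebra.TensorProduct.comm k A T
  let L : A →ₐ[T] T ⊗[k] A :=
    { toRingHom := e.toRingEquiv.toRingHom.comp v
      commutes' := fun t => by
        change e (v (algebraMap k A ((FrobAlg.toTwist p k).symm t))) = t ⊗ₜ[k] 1
        rw [v_algebraMap p k A hv, RingEquiv.apply_symm_apply]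
        rfl }
  haveI := Module.Finite.of_basis bT
  haveI := Module.Finite.of_basis bA
  have hL : Function.Surjective L := (LinearMap.injective_iff_surjective_of_finrank_eq_finrank (f := L.toLinearMap)
    (by rw [Module.finrank_eq_card_basis bA, Module.finrank_eq_card_basis bT])).1 (e.injective.comp hi)
  intro w
  obtain ⟨a, ha⟩ := hL (e w)
  exact ⟨a, e.injective ha⟩

end Field

end Groth.Agent.VerschLib
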